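import Cfsg.Agent.Lib.GLUnipotent.Labels

/-!
The permutations `κ` with `κ i ≤ i + 1` are indexed by the sets of cuts of the compositions they give.
-/

set_option autoImplicit false

namespace CfsgLib.GLUnipotent.StValues

open Finset

variable {n : ℕ}

/-- The largest cut not exceeding `i` (`0` counting as a cut). -/
def prev (T : Finset ℕ) (i : ℕ) : ℕ := ((insert 0 T).filter (· ≤ i)).max' ⟨0, by simp⟩

theorem prev_le (T : Finset ℕ) (i : ℕ) : prev T i ≤ i :=
  (mem_filter.1 (max'_mem ((insert 0 T).filter (· ≤ i)) _)).2

theorem prev_mem (T : Finset ℕ) (i : ℕ) : prev T i ∈ insert 0 T :=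
  (mem_filter.1 (max'_mem ((insert 0 T).filter (· ≤ i)) _)).1

theorem le_prev {T : Finset ℕ} {i t : ℕ} (ht : t ∈ insert 0 T) (hti : t ≤ i) : t ≤ prev T i :=
  le_max' _ _ (mem_filter.2 ⟨ht, hti⟩)

theorem prev_succ (T : Finset ℕ) (i : ℕ) : prev T (i + 1) = if i + 1 ∈ T then i + 1 else prev T i := by
  split
  · next h => exact le_antisymm (prev_le T _) (le_prev (mem_insert_of_mem h) le_rfl)
  · next h =>
    refine le_antisymm (le_prev (prev_mem T _) ?_) (le_prev (prev_mem T i) ((prev_le T i).trans (by omega)))
    by_contra hlt
    have h1 := prev_le T (i + 1)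
    have h2 := prev_mem T (i + 1)
    rw [show prev T (i + 1) = i + 1 by omega] at h2
    rcases mem_insert.1 h2 with h2 | h2
    · omega
    · exact h h2

theorem prev_mono (T : Finset ℕ) {i j : ℕ} (h : i ≤ j) : prev T i ≤ prev T j :=
  le_prev (prev_mem T i) ((prev_le T i).trans h)

/-- `i + 1` ends a block. -/
def IsEnd (n : ℕ) (T : Finset ℕ) (i : ℕ) : Prop := i + 1 ∈ T ∨ i + 1 = n

instance (n : ℕ) (T : Finset ℕ) (i : ℕ) : Decidable (IsEnd n T i) := by unfold IsEnd; infer_instance

/-- The cyclic shift inside each block, as a function. -/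
def kapFun (T : Finset ℕ) (i : Fin n) : Fin n :=
  if h : IsEnd n T i then ⟨prev T i, (prev_le T i).trans_lt i.isLt⟩
  else ⟨i.val + 1, by unfold IsEnd at h; have := i.isLt; omega⟩

theorem kapFun_of_end {T : Finset ℕ} {i : Fin n} (h : IsEnd n T i) : (kapFun T i).val = prev T i := by
  rw [kapFun, dif_pos h]

theorem kapFun_of_not {T : Finset ℕ} {i : Fin n} (h : ¬ IsEnd n T i) : (kapFun T i).val = i.val + 1 := by
  rw [kapFun, dif_neg h]

theorem kapFun_le (T : Finset ℕ) (i : Fin n) : (kapFun T i).val ≤ i.val + 1 := by
  by_cases h : IsEnd n T i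
  · rw [kapFun_of_end h]; exact (prev_le T i).trans (Nat.le_succ _)
  · rw [kapFun_of_not h]

theorem prev_lt_prev {T : Finset ℕ} {i j : Fin n} (hi : IsEnd n T i) (hij : i < j) : prev T i < prev T j := by
  rcases hi with hi | hi
  · have h1 : i.val + 1 ≤ prev T j := le_prev (mem_insert_of_mem hi) hij
    have := prev_le T i
    omega
  · have := j.isLt
    have : i.val < j.val := hij
    omega

theorem kapFun_injective (T : Finset ℕ) : Function.Injective (kapFun (n := n) T) := by
  have key : ∀ i j : Fin n, IsEnd n T i → ¬ IsEnd n T j → (kapFun T i).val ≠ (kapFun T j).val := by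
    intro i j hi hj h
    rw [kapFun_of_end hi, kapFun_of_not hj] at h
    rcases mem_insert.1 (prev_mem T i) with h0 | h0
    · omega
    · exact hj (Or.inl (h ▸ h0))
  intro i j h
  have hv : (kapFun T i).val = (kapFun T j).val := congrArg Fin.val h
  by_cases hi : IsEnd n T i <;> by_cases hj : IsEnd n T j
  · rw [kapFun_of_end hi, kapFun_of_end hj] at hv
    rcases lt_trichotomy i j with hlt | heq | hlt
    · exact absurd hv (prev_lt_prev hi hlt).ne
    · exact heq
    · exact absurd hv (prev_lt_prev hj hlt).ne'
  · exact absurd hv (key i j hi hj)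
  · exact absurd hv.symm (key j i hj hi)
  · rw [kapFun_of_not hi, kapFun_of_not hj] at hv
    exact Fin.ext (by omega)

/-- The cyclic shift inside each block, as a permutation. -/
noncomputable def kap (T : Finset ℕ) : Equiv.Perm (Fin n) :=
  Equiv.ofBijective (kapFun T) (Finite.injective_iff_bijective.1 (kapFun_injective T))

theorem kap_apply (T : Finset ℕ) (i : Fin n) : kap T i = kapFun T i := rfl

/-- The cuts of a permutation. -/
def cutsOf (κ : Equiv.Perm (Fin n)) : Finset ℕ :=
  (Finset.Icc 1 (n - 1)).filter fun t => ∃ i : Fin n, i.val + 1 = t ∧ (κ i).val ≤ i.val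

theorem cutsOf_subset (κ : Equiv.Perm (Fin n)) : cutsOf κ ⊆ Finset.Icc 1 (n - 1) := filter_subset _ _

theorem cutsOf_kap {T : Finset ℕ} (hT : T ⊆ Finset.Icc 1 (n - 1)) : cutsOf (kap (n := n) T) = T := by
  ext t
  rw [cutsOf, Finset.mem_filter]
  simp only [kap_apply]
  constructor
  · rintro ⟨ht, i, rfl, hi⟩
    by_cases he : IsEnd n T i
    · rcases he with he | he
      · exact he
      · have := mem_Icc.1 ht; omega
    · rw [kapFun_of_not he] at hi; omega
  · intro ht
    have hb := mem_Icc.1 (hT ht)
    have he : IsEnd n T (⟨t - 1, by omega⟩ : Fin n) := Or.inl (by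
      show t - 1 + 1 ∈ T
      rwa [Nat.sub_add_cancel hb.1])
    refine ⟨hT ht, ⟨t - 1, by omega⟩, Nat.sub_add_cancel hb.1, ?_⟩
    rw [kapFun_of_end he]
    exact prev_le T _

/-- A permutation with `κ i ≤ i + 1` is determined by its cuts. -/
theorem kap_cutsOf {κ : Equiv.Perm (Fin n)} (h : ∀ i, (κ i).val ≤ i.val + 1) : kap (cutsOf κ) = κ := by
  set T := cutsOf κ with hT
  suffices h' : ∀ m (i : Fin n), i.val = m → kap T i = κ i from Equiv.ext fun i => h' _ i rfl
  intro m
  induction m using Nat.strong_induction_on with
  | _ m ih =>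
    intro i him
    by_cases hi : IsEnd n T i
    · have hκ : (κ i).val ≤ i.val := by
        rcases hi with hi | hi
        · obtain ⟨j, hj, hκj⟩ := (mem_filter.1 hi).2
          have : j = i := Fin.ext (by omega)
          rw [this] at hκj; exact hκj
        · have := (κ i).isLt; omega
      obtain ⟨j, hj⟩ := (kap T).surjective (κ i)
      rcases lt_trichotomy j i with hlt | heq | hlt
      · have := ih j.val (by rw [← him]; exact hlt) j rfl
        rw [hj] at this
        exact absurd (κ.injective this) hlt.ne'
      · exact heq ▸ hj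
      · exfalso
        have hv : (kapFun T j).val ≤ i.val := by rw [← kap_apply, hj]; exact hκ
        by_cases hje : IsEnd n T j
        · rw [kapFun_of_end hje] at hv
          rcases hi with hi | hi
          · have : i.val + 1 ≤ prev T j := le_prev (mem_insert_of_mem hi) hlt
            omega
          · have := j.isLt
            have : i.val < j.val := hlt
            omega
        · rw [kapFun_of_not hje] at hv
          have : i.val < j.val := hlt
          omega
    · refine Fin.ext ?_
      rw [kap_apply, kapFun_of_not hi]
      by_contra hne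
      have hle : (κ i).val ≤ i.val := by have := h i; omega
      unfold IsEnd at hi
      have : i.val + 1 ≤ n - 1 := by have := i.isLt; omega
      exact hi (Or.inl (mem_filter.2 ⟨mem_Icc.2 ⟨by omega, this⟩, i, rfl, hle⟩))

theorem sign_kap {T : Finset ℕ} (hT : T ⊆ Finset.Icc 1 (n - 1)) :
    Equiv.Perm.sign (kap (n := n) T) = (-1) ^ (n - 1 - T.card) := by
  induction T using Finset.induction_on with
  | empty =>
    rw [Finset.card_empty, Nat.sub_zero, ← sign_finRotate]
    congr 1
    refine Equiv.ext fun i => Fin.ext ?_
    rcases n with _ | n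
    · exact i.elim0
    rw [kap_apply, coe_finRotate]
    by_cases hi : IsEnd (n + 1) (∅ : Finset ℕ) i
    · have : i.val + 1 = n + 1 := hi.resolve_left (Finset.notMem_empty _)
      rw [kapFun_of_end hi, if_pos (Fin.ext (by simp only [Fin.val_last]; omega))]
      rcases mem_insert.1 (prev_mem ∅ i) with h0 | h0
      · exact h0
      · exact absurd h0 (Finset.notMem_empty _)
    · rw [kapFun_of_not hi, if_neg fun h => hi (Or.inr (by rw [h]; rfl))]
  | @insert t T ht ih =>
    have hb := mem_Icc.1 (hT (mem_insert_self t T))
    have hT' : T ⊆ Finset.Icc 1 (n - 1) := (subset_insert _ _).trans hT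
    let a : Fin n := ⟨t - 1, by omega⟩
    have ha : a.val + 1 = t := Nat.sub_add_cancel hb.1
    have haT : ¬ IsEnd n T a := fun h => by
      rcases h with h | h
      · exact ht (ha ▸ h)
      · omega
    obtain ⟨e, he⟩ := (kap T).surjective ⟨prev T a, (prev_le T a).trans_lt a.isLt⟩
    have hev : (kapFun T e).val = prev T a := congrArg Fin.val he
    have hee : IsEnd n T e := by
      by_contra hne
      rw [kapFun_of_not hne] at hev
      rcases mem_insert.1 (prev_mem T a) with h0 | h0
      · omega
      · exact hne (Or.inl (hev ▸ h0))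
    rw [kapFun_of_end hee] at hev
    have hae : a ≠ e := fun h => haT (h ▸ hee)
    have hprev : ∀ i, prev (insert t T) i = if t ≤ i ∧ prev T i < t then t else prev T i := by
      intro i
      have hsub : prev T i ≤ prev (insert t T) i :=
        le_prev (by rcases mem_insert.1 (prev_mem T i) with h | h <;> simp [h]) (prev_le T i)
      split
      · next h =>
        refine le_antisymm ?_ (le_prev (by simp) h.1)
        rcases mem_insert.1 (prev_mem (insert t T) i) with h0 | h0
        · omega
        rcases mem_insert.1 h0 with h0 | h0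
        · omega
        · exact (le_prev (mem_insert_of_mem h0) (prev_le _ i)).trans h.2.le
      · next h =>
        refine le_antisymm ?_ hsub
        rcases mem_insert.1 (prev_mem (insert t T) i) with h0 | h0
        · omega
        rcases mem_insert.1 h0 with h0 | h0
        · rw [h0]
          have := prev_le (insert t T) i
          rw [h0] at this
          by_contra hc
          exact h ⟨this, by omega⟩
        · exact le_prev (mem_insert_of_mem h0) (prev_le _ i)
    have hmain : kap (n := n) (insert t T) = kap T * Equiv.swap a e := by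
      refine Equiv.ext fun i => Fin.ext ?_
      rw [Equiv.Perm.mul_apply, kap_apply, kap_apply]
      have hpa : prev T a < t := by have := prev_le T a; omega
      by_cases hia : i = a
      · subst hia
        rw [Equiv.swap_apply_left, kapFun_of_end hee, hev,
          kapFun_of_end (Or.inl (by rw [ha]; exact mem_insert_self t T)), hprev, if_neg]
        intro h
        omega
      by_cases hie : i = e
      · subst hie
        rw [Equiv.swap_apply_right, kapFun_of_not haT, ha,
          kapFun_of_end (hee.imp_left (fun h => mem_insert_of_mem h)), hprev, if_pos]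
        refine ⟨?_, by omega⟩
        rcases lt_or_ge i.val t with hlt | hge
        · exfalso
          have hne : i.val ≠ a.val := fun h => hia (Fin.ext h)
          have hlt' : prev T i < prev T a := prev_lt_prev hee (show i.val < a.val by omega)
          omega
        · exact hge
      rw [Equiv.swap_apply_of_ne_of_ne hia hie]
      by_cases hend : IsEnd n T i
      · rw [kapFun_of_end hend, kapFun_of_end (hend.imp_left fun h => mem_insert_of_mem h), hprev, if_neg]
        rintro ⟨h1, h2⟩
        have hle : prev T i ≤ prev T a := le_prev (prev_mem T i) (by omega)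
        have hge : prev T a ≤ prev T i := prev_mono T (by omega)
        exact hie (kapFun_injective T (Fin.ext (by
          rw [kapFun_of_end hend, kapFun_of_end hee, hev]; omega)))
      · have hend' : ¬ IsEnd n (insert t T) i := by
          rintro (h | h)
          · rcases mem_insert.1 h with h | h
            · exact hia (Fin.ext (by omega))
            · exact hend (Or.inl h)
          · exact hend (Or.inr h)
        rw [kapFun_of_not hend, kapFun_of_not hend']
    rw [hmain, map_mul, Equiv.Perm.sign_swap hae, ih hT', card_insert_of_notMem ht]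
    have hcard := Finset.card_le_card hT
    rw [card_insert_of_notMem ht, Nat.card_Icc] at hcard
    rw [show n - 1 - T.card = n - 1 - (T.card + 1) + 1 by omega, pow_succ, mul_assoc, Int.units_mul_self, mul_one]

/-- Partial sums of the composition attached to a set of cuts. -/
theorem psum_kap {T : Finset ℕ} : ∀ (m : ℕ) (i : Fin n), i.val = m →
    psum (fun k : Fin n => 1 + k.val - (kap T k).val) i = if IsEnd n T i then i.val + 1 else prev T i := by
  intro m
  induction m with
  | zero =>
    intro i hi
    have : (Finset.univ.filter fun k : Fin n => k ≤ i) = {i} := by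
      ext k
      simp only [mem_filter, mem_univ, true_and, mem_singleton, Fin.le_iff_val_le_val, Fin.ext_iff]
      omega
    rw [psum, this, sum_singleton, kap_apply]
    have hp : prev T i = 0 := by have := prev_le T i; omega
    split
    · next h => rw [kapFun_of_end h, hp, hi]
    · next h => rw [kapFun_of_not h, hp, hi]
  | succ m ih =>
    intro i hi
    let j : Fin n := ⟨m, by omega⟩
    have hs : (Finset.univ.filter fun k : Fin n => k ≤ i) =
        insert i (Finset.univ.filter fun k : Fin n => k ≤ j) := by
      ext k
      simp only [mem_filter, mem_univ, true_and, mem_insert, Fin.le_iff_val_le_val, Fin.ext_iff, j]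
      omega
    rw [psum, hs, sum_insert (by simp [Fin.le_iff_val_le_val, j]; omega)]
    have hj := ih j rfl
    rw [psum] at hj
    rw [hj, kap_apply, hi, prev_succ]
    have hjn : IsEnd n T j ↔ m + 1 ∈ T := ⟨fun h => h.resolve_right (by
      have := i.isLt; show m + 1 ≠ n; omega), Or.inl⟩
    have hle := prev_le T m
    by_cases h2 : IsEnd n T i
    · rw [kapFun_of_end h2, if_pos (show IsEnd n T (m + 1) from hi ▸ h2), hi, prev_succ]
      by_cases h1 : m + 1 ∈ T
      · rw [if_pos (hjn.2 h1), if_pos h1]; show _ + (m + 1) = _; omega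
      · rw [if_neg (fun h => h1 (hjn.1 h)), if_neg h1]; show _ + prev T m = _; omega
    · rw [kapFun_of_not h2, if_neg (show ¬ IsEnd n T (m + 1) from hi ▸ h2), hi]
      by_cases h1 : m + 1 ∈ T
      · rw [if_pos (hjn.2 h1), if_pos h1]; show _ + (m + 1) = _; omega
      · rw [if_neg (fun h => h1 (hjn.1 h)), if_neg h1]; show _ + prev T m = _; omega

/-- The blocks of the composition are separated by the cuts. -/
theorem label_lt_iff {T : Finset ℕ} (hT : T ⊆ Finset.Icc 1 (n - 1)) (i j : Fin n) :
    Cfsg.compLabel (fun k : Fin n => 1 + k.val - (kap T k).val) j <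
      Cfsg.compLabel (fun k : Fin n => 1 + k.val - (kap T k).val) i ↔
        ∃ t ∈ T, j.val < t ∧ t ≤ i.val := by
  set μ := fun k : Fin n => 1 + k.val - (kap T k).val
  have hps : ∀ a : Fin n, psum μ a = if IsEnd n T a then a.val + 1 else prev T a :=
    fun a => psum_kap _ a rfl
  constructor
  · intro h
    have hlt : Cfsg.compLabel μ j < n := by
      have : Cfsg.compLabel μ i ≤ n := (Finset.card_filter_le _ _).trans (by simp)
      omega
    let a : Fin n := ⟨Cfsg.compLabel μ j, hlt⟩
    have h1 : j.val < psum μ a := (compLabel_le_iff μ j a).1 le_rfl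
    have h2 : ¬ i.val < psum μ a := fun hc => absurd ((compLabel_le_iff μ i a).2 hc) (not_le.2 h)
    refine ⟨psum μ a, ?_, h1, not_lt.1 h2⟩
    rw [hps] at h1 h2 ⊢
    have := i.isLt
    split at h1
    · next he =>
      rw [if_pos he] at h2 ⊢
      exact he.resolve_right (by omega)
    · next he =>
      rw [if_neg he] at h2 ⊢
      exact (mem_insert.1 (prev_mem T a)).resolve_left (by omega)
  · rintro ⟨t, ht, hjt, hti⟩
    have hb := mem_Icc.1 (hT ht)
    let a : Fin n := ⟨t - 1, by omega⟩
    have he : IsEnd n T a := Or.inl (show t - 1 + 1 ∈ T by rwa [Nat.sub_add_cancel hb.1])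
    have ha : psum μ a = t := by rw [hps, if_pos he]; exact Nat.sub_add_cancel hb.1
    have h1 := (compLabel_le_iff μ j a).2 (by rw [ha]; exact hjt)
    have h2 : ¬ Cfsg.compLabel μ i ≤ a.val := fun hc => by
      have := (compLabel_le_iff μ i a).1 hc
      omega
    omega

end CfsgLib.GLUnipotent.StValues
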