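import Mathlib

/-!
The Möbius function `μ(⊥, x)` of a finite lattice: Weisner's recursion and alternating sums over chains.
-/

set_option autoImplicit false

namespace CfsgLib.GLUnipotent.StValues

open Finset

variable {L : Type*} [Lattice L] [OrderBot L] [Fintype L]

open Classical in
/-- `μ(⊥, x)`. -/
noncomputable def mu : L → ℤ :=
  (Finite.wellFounded_of_trans_of_irrefl (α := L) (· < ·)).fix fun x f =>
    if x = ⊥ then 1 else -∑ y ∈ (univ.filter (· < x)).attach, f y.1 (mem_filter.1 y.2).2

open Classical in
theorem mu_eq (x : L) : mu x = if x = ⊥ then 1 else -∑ y ∈ univ.filter (· < x), mu y := by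
  conv_lhs => rw [mu, WellFounded.fix_eq]
  split
  · rfl
  · rw [← sum_attach (univ.filter (· < x))]
    rfl

theorem mu_bot : mu (⊥ : L) = 1 := by rw [mu_eq, if_pos rfl]

open Classical in
theorem sum_le {x : L} (hx : x ≠ ⊥) : ∑ y ∈ univ.filter (· ≤ x), mu y = 0 := by
  have : univ.filter (· ≤ x) = insert x (univ.filter (· < x)) := by
    ext y
    simp [le_iff_eq_or_lt]
  rw [this, sum_insert (by simp), mu_eq x, if_neg hx, neg_add_cancel]

open Classical in
/-- Weisner's recursion at an atom: the sum over the elements whose join with `a` is `x` vanishes. -/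
theorem weisner {a : L} (ha : IsAtom a) : ∀ x : L, a ≤ x →
    ∑ y ∈ univ.filter (fun y => y ⊔ a = x), mu y = 0 := by
  intro x
  induction x using (Finite.wellFounded_of_trans_of_irrefl (α := L) (· < ·)).induction with
  | h x ih =>
    intro hax
    have hfib : univ.filter (fun y : L => y ≤ x) =
        (univ.filter (fun z : L => a ≤ z ∧ z ≤ x)).biUnion fun z => univ.filter (fun y => y ⊔ a = z) := by
      ext y
      simp only [mem_filter, mem_univ, true_and, mem_biUnion]
      constructor
      · exact fun hy => ⟨y ⊔ a, ⟨le_sup_right, sup_le hy hax⟩, rfl⟩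
      · rintro ⟨z, ⟨_, hz⟩, rfl⟩
        exact le_sup_left.trans hz
    have h0 := sum_le (fun h : x = ⊥ => ha.1 (le_bot_iff.1 (h ▸ hax)))
    rw [hfib, sum_biUnion (fun z _ w _ hzw => disjoint_filter.2 fun y _ h1 h2 => hzw (h1.symm.trans h2)),
      sum_eq_single x] at h0
    · exact h0
    · intro z hz hzx
      rw [mem_filter] at hz
      exact ih z (lt_of_le_of_ne hz.2.2 hzx) hz.2.1
    · intro h
      exact absurd (mem_filter.2 ⟨mem_univ x, hax, le_rfl⟩) h

open Classical in
theorem mu_eq_neg_sum {a x : L} (ha : IsAtom a) (hax : a ≤ x) :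
    mu x = -∑ y ∈ univ.filter (fun y => ¬ a ≤ y ∧ y ⊔ a = x), mu y := by
  have h := weisner ha x hax
  rw [← sum_filter_add_sum_filter_not (univ.filter (fun y => y ⊔ a = x)) (fun y => a ≤ y),
    filter_filter, filter_filter] at h
  have h1 : univ.filter (fun y => y ⊔ a = x ∧ a ≤ y) = {x} := by
    ext y
    simp only [mem_filter, mem_univ, true_and, mem_singleton]
    exact ⟨fun ⟨h1, h2⟩ => by rwa [sup_eq_left.2 h2] at h1,
      fun h => by subst h; exact ⟨sup_eq_left.2 hax, hax⟩⟩
  have h2 : univ.filter (fun y => y ⊔ a = x ∧ ¬ a ≤ y) = univ.filter (fun y => ¬ a ≤ y ∧ y ⊔ a = x) :=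
    filter_congr fun y _ => and_comm
  rw [h1, sum_singleton, h2] at h
  linarith

open Classical in
/-- The chains strictly between `⊥` and `x`. -/
noncomputable def chainsBelow (x : L) : Finset (Finset L) :=
  univ.filter fun C => IsChain (· ≤ ·) (C : Set L) ∧ ∀ y ∈ C, ⊥ < y ∧ y < x

open Classical in
theorem sum_chainsBelow {x : L} (hx : x ≠ ⊥) : ∑ C ∈ chainsBelow x, (-1 : ℤ) ^ C.card = -mu x := by
  induction x using (Finite.wellFounded_of_trans_of_irrefl (α := L) (· < ·)).induction with
  | h x ih =>
    set Y := univ.filter fun y : L => ⊥ < y ∧ y < x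
    have hsplit : chainsBelow x = insert ∅ (Y.biUnion fun y => (chainsBelow y).image (insert y)) := by
      ext C
      simp only [chainsBelow, mem_filter, mem_univ, true_and, mem_insert, mem_biUnion, mem_image, Y]
      constructor
      · rintro ⟨hC, hmem⟩
        rcases C.eq_empty_or_nonempty with h | h
        · exact Or.inl h
        obtain ⟨y, hy, hmax⟩ := C.exists_maximal h
        refine Or.inr ⟨y, hmem y hy, C.erase y, ⟨hC.mono (coe_subset.2 (erase_subset y C)), ?_⟩, insert_erase hy⟩
        intro z hz
        obtain ⟨hzy, hz⟩ := mem_erase.1 hz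
        refine ⟨(hmem z hz).1, lt_of_le_of_ne ?_ hzy⟩
        rcases hC.total hz hy with h | h
        · exact h
        · exact hmax hz h
      · rintro (rfl | ⟨y, hy, C, ⟨hC, hmem⟩, rfl⟩)
        · simp
        · refine ⟨?_, fun z hz => ?_⟩
          · rw [coe_insert]
            exact hC.insert fun b hb _ => Or.inr (hmem b hb).2.le
          · rcases mem_insert.1 hz with rfl | hz
            · exact hy
            · exact ⟨(hmem z hz).1, (hmem z hz).2.trans hy.2⟩
    have hne : ∅ ∉ Y.biUnion fun y => (chainsBelow y).image (insert y) := by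
      simp [insert_ne_empty]
    have hnot : ∀ y : L, ∀ C ∈ chainsBelow y, y ∉ C := fun y C hC hy => by
      simp only [chainsBelow, mem_filter, mem_univ, true_and] at hC
      exact lt_irrefl y (hC.2 y hy).2
    have hinj : ∀ y : L, Set.InjOn (insert y) (chainsBelow y : Set (Finset L)) := fun y C hC D hD h => by
      rw [← erase_insert (hnot y C hC), ← erase_insert (hnot y D hD), h]
    have hdisj : (Y : Set L).PairwiseDisjoint fun y => (chainsBelow y).image (insert y) := by
      intro y _ z _ hyz
      refine disjoint_left.2 fun C h1 h2 => hyz ?_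
      obtain ⟨A, hA, rfl⟩ := mem_image.1 h1
      obtain ⟨B, hB, hBe⟩ := mem_image.1 h2
      simp only [chainsBelow, mem_filter, mem_univ, true_and] at hA hB
      rcases mem_insert.1 (hBe ▸ mem_insert_self z B : z ∈ insert y A) with h | h
      · exact h.symm
      · rcases mem_insert.1 (hBe.symm ▸ mem_insert_self y A : y ∈ insert z B) with h' | h'
        · exact h'
        · exact absurd ((hA.2 z h).2.trans (hB.2 y h').2) (lt_irrefl z)
    rw [hsplit, sum_insert hne, sum_biUnion hdisj, card_empty, pow_zero]
    have hstep : ∀ y ∈ Y, ∑ C ∈ (chainsBelow y).image (insert y), (-1 : ℤ) ^ C.card = mu y := by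
      intro y hy
      simp only [Y, mem_filter, mem_univ, true_and] at hy
      rw [sum_image (hinj y)]
      have := ih y hy.2 hy.1.ne'
      calc ∑ C ∈ chainsBelow y, (-1 : ℤ) ^ (insert y C).card
          = ∑ C ∈ chainsBelow y, -((-1 : ℤ) ^ C.card) := sum_congr rfl fun C hC => by
            rw [card_insert_of_notMem (hnot y C hC), pow_succ, mul_neg_one]
        _ = mu y := by rw [sum_neg_distrib, this, neg_neg]
    rw [sum_congr rfl hstep, mu_eq x, if_neg hx, neg_neg]
    have : univ.filter (· < x) = insert ⊥ Y := by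
      ext y
      simp only [Y, mem_filter, mem_univ, true_and, mem_insert]
      constructor
      · intro h
        rcases eq_bot_or_bot_lt y with h' | h'
        exacts [Or.inl h', Or.inr ⟨h', h⟩]
      · rintro (rfl | h)
        exacts [bot_lt_iff_ne_bot.2 hx, h.2]
    rw [this, sum_insert (by simp [Y]), mu_bot]

end CfsgLib.GLUnipotent.StValues
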