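import Cfsg.Agent.Lib.GLUnipotent.SteinbergValues.Cuts
import Cfsg.Agent.Lib.GLUnipotent.SteinbergValues.Mobius
import Cfsg.Agent.Lib.KnownSimple.SemisimpleClasses.Matrices

/-!
Cosets of a parabolic subgroup fixed by a matrix correspond to chains of invariant subspaces of the given
dimensions.
-/

set_option autoImplicit false

namespace CfsgLib.GLUnipotent.StValues

open Polynomial Module CfsgLib.SSClasses
open scoped MatrixGroups

universe u

variable {F : Type u} [Field F] {n : ℕ}

/-- The span of the first `t` coordinate vectors. -/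
def firstCoords (F : Type u) [Field F] (n t : ℕ) : Submodule F (Fin n → F) where
  carrier := {v | ∀ i : Fin n, t ≤ i.val → v i = 0}
  zero_mem' := fun _ _ => rfl
  add_mem' := fun {a b} ha hb i hi => by rw [Pi.add_apply, ha i hi, hb i hi, add_zero]
  smul_mem' := fun c a ha i hi => by rw [Pi.smul_apply, ha i hi, smul_zero]

theorem firstCoords_eq_span (t : ℕ) :
    firstCoords F n t = Submodule.span F (Pi.basisFun F (Fin n) '' {i : Fin n | i.val < t}) := by
  classical
  refine le_antisymm (fun v hv => ?_) (Submodule.span_le.2 ?_)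
  · rw [← (Pi.basisFun F (Fin n)).sum_repr v]
    refine Submodule.sum_mem _ fun i _ => ?_
    by_cases hi : i.val < t
    · exact Submodule.smul_mem _ _ (Submodule.subset_span ⟨i, hi, rfl⟩)
    · rw [Pi.basisFun_repr, hv i (not_lt.1 hi), zero_smul]
      exact zero_mem _
  · rintro _ ⟨j, hj, rfl⟩ i hi
    rw [Pi.basisFun_apply, Pi.single_apply, if_neg]
    intro h
    rw [h] at hi
    exact absurd (show j.val < t from hj) (not_lt.2 hi)

theorem finrank_firstCoords {t : ℕ} (ht : t ≤ n) : finrank F (firstCoords F n t) = t := by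
  let e : firstCoords F n t ≃ₗ[F] (Fin t → F) :=
    { toFun := fun v j => v.1 (Fin.castLE ht j)
      map_add' := fun a b => rfl
      map_smul' := fun c a => rfl
      invFun := fun w => ⟨fun i => if h : i.val < t then w ⟨i.val, h⟩ else 0,
        fun i hi => dif_neg (not_lt.2 hi)⟩
      left_inv := fun v => Subtype.ext (_root_.funext fun i => by
        by_cases h : i.val < t
        · exact dif_pos h
        · exact (dif_neg h).trans (v.2 i (not_lt.1 h)).symm)
      right_inv := fun w => _root_.funext fun j => dif_pos (show (Fin.castLE ht j).val < t from j.isLt) }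
  rw [e.finrank_eq, finrank_fin_fun]

/-- The subspace of the standard flag moved by `g`. -/
noncomputable def flagSpace (g : GL (Fin n) F) (t : ℕ) : Submodule F (Fin n → F) :=
  (firstCoords F n t).map (Matrix.toLin' (g : Matrix (Fin n) (Fin n) F))

theorem toLin'_injective (g : GL (Fin n) F) :
    Function.Injective (Matrix.toLin' (g : Matrix (Fin n) (Fin n) F)) := fun v w h => by
  have := congrArg (Matrix.toLin' ((g⁻¹ : GL (Fin n) F) : Matrix (Fin n) (Fin n) F)) h
  rwa [← LinearMap.comp_apply, ← LinearMap.comp_apply, ← Matrix.toLin'_mul, Units.inv_mul, Matrix.toLin'_one,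
    LinearMap.id_apply, LinearMap.id_apply] at this

theorem finrank_flagSpace (g : GL (Fin n) F) {t : ℕ} (ht : t ≤ n) : finrank F (flagSpace g t) = t := by
  rw [flagSpace, ← (Submodule.equivMapOfInjective _ (toLin'_injective g) (firstCoords F n t)).finrank_eq,
    finrank_firstCoords ht]

theorem flagSpace_mul (g h : GL (Fin n) F) (t : ℕ) :
    flagSpace (g * h) t = (flagSpace h t).map (Matrix.toLin' (g : Matrix (Fin n) (Fin n) F)) := by
  rw [flagSpace, flagSpace, Units.val_mul, Matrix.toLin'_mul, Submodule.map_comp]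

theorem flagSpace_one (t : ℕ) : flagSpace (1 : GL (Fin n) F) t = firstCoords F n t := by
  rw [flagSpace, Units.val_one, Matrix.toLin'_one, Submodule.map_id]

/-- The parabolic subgroup attached to a set of cuts. -/
noncomputable def cutParabolic (F : Type u) [Field F] (n : ℕ) (T : Finset ℕ) : Subgroup (GL (Fin n) F) :=
  Cfsg.parabolicGL n F fun k : Fin n => 1 + k.val - (kap T k).val

theorem mem_cutParabolic_iff {T : Finset ℕ} (hT : T ⊆ Finset.Icc 1 (n - 1)) (g : GL (Fin n) F) :
    g ∈ cutParabolic F n T ↔ ∀ t ∈ T, flagSpace g t = firstCoords F n t := by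
  classical
  have hle : ∀ t ∈ T, t ≤ n := fun t ht => by have := Finset.mem_Icc.1 (hT ht); omega
  constructor
  · intro hg t ht
    refine Submodule.eq_of_le_of_finrank_eq ?_ (by rw [finrank_flagSpace g (hle t ht), finrank_firstCoords (hle t ht)])
    rintro _ ⟨v, hv, rfl⟩ i hi
    rw [Matrix.toLin'_apply, Matrix.mulVec, dotProduct]
    refine Finset.sum_eq_zero fun j _ => ?_
    by_cases hj : j.val < t
    · rw [show (g : Matrix (Fin n) (Fin n) F) i j = 0 from hg ((label_lt_iff hT i j).2 ⟨t, ht, hj, hi⟩), zero_mul]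
    · rw [hv j (not_lt.1 hj), mul_zero]
  · intro h i j hij
    obtain ⟨t, ht, hjt, hti⟩ := (label_lt_iff hT i j).1 hij
    have hm : Matrix.toLin' (g : Matrix (Fin n) (Fin n) F) (Pi.single j 1) ∈ firstCoords F n t := by
      rw [← h t ht]
      refine ⟨Pi.single j 1, fun k hk => ?_, rfl⟩
      rw [Pi.single_apply, if_neg]
      intro e
      rw [e] at hk
      omega
    have := hm i hti
    rwa [Matrix.toLin'_apply, Matrix.mulVec_single_one] at this

/-- A basis adapted to a chain of subspaces. -/
theorem exists_adapted : ∀ (d : ℕ) (V : Type u) [AddCommGroup V] [Module F V] [FiniteDimensional F V],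
    finrank F V = d → ∀ C : Finset (Submodule F V), IsChain (· ≤ ·) (C : Set (Submodule F V)) →
    ∃ b : Basis (Fin d) F V, ∀ W ∈ C, W = Submodule.span F (b '' {i | i.val < finrank F W}) := by
  intro d
  induction d using Nat.strong_induction_on with
  | _ d ih =>
  intro V _ _ _ hd C hC
  classical
  rcases Nat.eq_zero_or_pos d with h0 | hpos
  · refine ⟨finBasisOfFinrankEq F V hd, fun W _ => ?_⟩
    subst h0
    haveI := Module.finrank_zero_iff.1 hd
    exact Subsingleton.elim _ _
  set D := C.filter (fun W => W ≠ ⊤)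
  obtain ⟨W0, hW0, hmax⟩ : ∃ W0 : Submodule F V, W0 ≠ ⊤ ∧ ∀ W ∈ D, W ≤ W0 := by
    rcases D.eq_empty_or_nonempty with h | h
    · haveI : Nontrivial V := Module.finrank_pos_iff.1 (hd ▸ hpos)
      exact ⟨⊥, bot_ne_top, fun W hW => absurd hW (h ▸ Finset.notMem_empty W)⟩
    · obtain ⟨W0, hW0, hmax⟩ := D.exists_maximal h
      refine ⟨W0, (Finset.mem_filter.1 hW0).2, fun W hW => ?_⟩
      rcases hC.total (Finset.mem_filter.1 hW).1 (Finset.mem_filter.1 hW0).1 with h' | h'
      · exact h'
      · exact hmax hW h'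
  have hlt : finrank F W0 < d := hd ▸ Submodule.finrank_lt hW0
  have hC' : IsChain (· ≤ ·) ((↑(C.image fun W => W.comap W0.subtype)) : Set (Submodule F W0)) := by
    rw [Finset.coe_image]
    rintro _ ⟨W, hW, rfl⟩ _ ⟨W', hW', rfl⟩ _
    rcases hC.total hW hW' with h | h
    · exact Or.inl (Submodule.comap_mono h)
    · exact Or.inr (Submodule.comap_mono h)
  obtain ⟨b, hb⟩ := ih _ hlt W0 rfl _ hC'
  obtain ⟨Q, hQ⟩ := exists_isCompl W0
  have hsum : finrank F W0 + finrank F Q = d := hd ▸ Submodule.finrank_add_eq_of_isCompl hQ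
  let B : Basis (Fin d) F V := (((b.prod (finBasis F Q)).map (Submodule.prodEquivOfIsCompl W0 Q hQ)).reindex
    finSumFinEquiv).reindex (finCongr hsum)
  refine ⟨B, fun W hW => ?_⟩
  by_cases hWt : W = ⊤
  · subst hWt
    rw [finrank_top, hd, show {i : Fin d | i.val < d} = Set.univ from Set.eq_univ_of_forall fun i => i.isLt,
      Set.image_univ, B.span_eq]
  have hle : W ≤ W0 := hmax W (Finset.mem_filter.2 ⟨hW, hWt⟩)
  have hfr : finrank F (W.comap W0.subtype) = finrank F W :=
    (Submodule.comapSubtypeEquivOfLe hle).finrank_eq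
  have hB : ∀ i : Fin (finrank F W0), B (Fin.castLE (by omega) i) = (b i : V) := fun i => by
    have : (finCongr hsum).symm (Fin.castLE (by omega) i) = Fin.castAdd _ i := Fin.ext rfl
    simp only [B, Basis.reindex_apply]
    rw [this, finSumFinEquiv_symm_apply_castAdd]
    simp
  have hspan : W = Submodule.span F ((fun i => (b i : V)) '' {i | i.val < finrank F W}) := by
    conv_lhs => rw [← inf_eq_right.2 hle, ← Submodule.map_comap_subtype,
      hb _ (Finset.mem_image_of_mem _ hW), Submodule.map_span, Set.image_image, hfr]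
    rfl
  conv_lhs => rw [hspan]
  congr 1
  ext v
  constructor
  · rintro ⟨i, hi, rfl⟩
    exact ⟨Fin.castLE (by omega) i, hi, hB i⟩
  · rintro ⟨i, hi, rfl⟩
    have hb' : i.val < finrank F W0 := lt_of_lt_of_le hi (Submodule.finrank_mono hle)
    exact ⟨⟨i.val, hb'⟩, hi, (hB ⟨i.val, hb'⟩).symm⟩

variable (A : GL (Fin n) F)

/-- Submodules of the module of `A` as subspaces. -/
noncomputable def toSpace (W : Submodule F[X] (MatMod (A : Matrix (Fin n) (Fin n) F))) :
    Submodule F (Fin n → F) :=
  (W.restrictScalars F).comap (AEval'.of (Matrix.toLin' (A : Matrix (Fin n) (Fin n) F))).toLinearMap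

theorem mem_toSpace {W : Submodule F[X] (MatMod (A : Matrix (Fin n) (Fin n) F))} {v : Fin n → F} :
    v ∈ toSpace A W ↔ AEval'.of (Matrix.toLin' (A : Matrix (Fin n) (Fin n) F)) v ∈ W := Iff.rfl

theorem toSpace_le {W W' : Submodule F[X] (MatMod (A : Matrix (Fin n) (Fin n) F))} :
    toSpace A W ≤ toSpace A W' ↔ W ≤ W' := by
  refine ⟨fun h m hm => ?_, fun h v hv => h hv⟩
  obtain ⟨v, rfl⟩ := (AEval'.of (Matrix.toLin' (A : Matrix (Fin n) (Fin n) F))).surjective m
  exact h hm

theorem toSpace_injective : Function.Injective (toSpace A) := fun _ _ h =>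
  le_antisymm ((toSpace_le A).1 h.le) ((toSpace_le A).1 h.ge)

theorem toSpace_bot : toSpace A ⊥ = ⊥ := by
  ext v
  rw [mem_toSpace, Submodule.mem_bot, LinearEquiv.map_eq_zero_iff, Submodule.mem_bot]

theorem toSpace_top : toSpace A ⊤ = ⊤ := by
  ext v
  simp [mem_toSpace]

theorem toSpace_invariant (W : Submodule F[X] (MatMod (A : Matrix (Fin n) (Fin n) F))) :
    (toSpace A W).map (Matrix.toLin' (A : Matrix (Fin n) (Fin n) F)) ≤ toSpace A W := by
  rintro _ ⟨v, hv, rfl⟩
  rw [mem_toSpace, ← AEval'.X_smul_of]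
  exact W.smul_mem _ hv

theorem exists_toSpace_eq {U : Submodule F (Fin n → F)}
    (hU : U.map (Matrix.toLin' (A : Matrix (Fin n) (Fin n) F)) ≤ U) :
    ∃ W : Submodule F[X] (MatMod (A : Matrix (Fin n) (Fin n) F)), toSpace A W = U := by
  let e := AEval'.of (Matrix.toLin' (A : Matrix (Fin n) (Fin n) F))
  refine ⟨{ carrier := {m | e.symm m ∈ U}
            zero_mem' := by simp
            add_mem' := fun {a b} ha hb => by
              show e.symm (a + b) ∈ U
              rw [map_add]; exact U.add_mem ha hb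
            smul_mem' := fun p m hm => ?_ }, ?_⟩
  · show e.symm (p • m) ∈ U
    induction p using Polynomial.induction_on' with
    | add a b ha hb => rw [add_smul, map_add]; exact U.add_mem ha hb
    | monomial k c =>
      induction k generalizing c with
      | zero => rw [monomial_zero_left, AEval.C_smul, map_smul]; exact U.smul_mem c hm
      | succ k ih =>
        rw [← monomial_mul_X, mul_comm, mul_smul, AEval'.of_symm_X_smul]
        exact hU ⟨_, ih c, rfl⟩
  · ext v
    show e.symm (e v) ∈ U ↔ v ∈ U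
    rw [LinearEquiv.symm_apply_apply]

/-- The dimension of an invariant subspace. -/
noncomputable def dimOf (W : Submodule F[X] (MatMod (A : Matrix (Fin n) (Fin n) F))) : ℕ :=
  finrank F (toSpace A W)

theorem dimOf_strictMono {W W' : Submodule F[X] (MatMod (A : Matrix (Fin n) (Fin n) F))} (h : W < W') :
    dimOf A W < dimOf A W' :=
  Submodule.finrank_lt_finrank_of_lt (lt_of_le_of_ne ((toSpace_le A).2 h.le) fun e => h.ne (toSpace_injective A e))

variable [Fintype (Submodule F[X] (MatMod (A : Matrix (Fin n) (Fin n) F)))]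

/-- Fixed cosets of a parabolic subgroup correspond to chains of invariant subspaces with given dimensions. -/
theorem card_fixedBy_cutParabolic (hn : n ≠ 0) {T : Finset ℕ} (hT : T ⊆ Finset.Icc 1 (n - 1)) :
    Nat.card (MulAction.fixedBy (GL (Fin n) F ⧸ cutParabolic F n T) A) =
      ((chainsBelow (⊤ : Submodule F[X] (MatMod (A : Matrix (Fin n) (Fin n) F)))).filter
        fun C => C.image (dimOf A) = T).card := by
  classical
  have hle : ∀ t ∈ T, t ≤ n := fun t ht => by have := Finset.mem_Icc.1 (hT ht); omega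
  have hinv : ∀ q : MulAction.fixedBy (GL (Fin n) F ⧸ cutParabolic F n T) A, ∀ t ∈ T,
      ∃ W : Submodule F[X] (MatMod (A : Matrix (Fin n) (Fin n) F)), toSpace A W = flagSpace (Quotient.out q.1) t := by
    intro q t ht
    refine exists_toSpace_eq A ?_
    have h1 : ((A * Quotient.out q.1 : GL (Fin n) F) : GL (Fin n) F ⧸ cutParabolic F n T) =
        ((Quotient.out q.1 : GL (Fin n) F) : GL (Fin n) F ⧸ cutParabolic F n T) := by
      have h2 : A • q.1 = q.1 := q.2
      rwa [← QuotientGroup.out_eq' q.1, MulAction.Quotient.smul_coe, smul_eq_mul] at h2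
    have h3 := (mem_cutParabolic_iff hT _).1 (QuotientGroup.eq.1 h1) t ht
    have h4 : flagSpace (A * Quotient.out q.1) t = flagSpace (Quotient.out q.1) t := by
      conv_rhs => rw [← mul_inv_cancel_left (A * Quotient.out q.1) (Quotient.out q.1), flagSpace_mul, h3]
      rfl
    rw [flagSpace_mul] at h4
    exact h4.le
  choose Wf hWf using hinv
  have hdim : ∀ q t ht, dimOf A (Wf q t ht) = t := fun q t ht => by
    rw [dimOf, hWf, finrank_flagSpace _ (hle t ht)]
  have hmono : ∀ (g : GL (Fin n) F) {s t : ℕ}, s ≤ t → flagSpace g s ≤ flagSpace g t := fun g s t hst =>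
    Submodule.map_mono fun v hv i hi => hv i (hst.trans hi)
  have hchain : ∀ q, (T.attach.image fun t => Wf q t.1 t.2) ∈
      ((chainsBelow (⊤ : Submodule F[X] (MatMod (A : Matrix (Fin n) (Fin n) F)))).filter fun C => C.image (dimOf A) = T) := by
    intro q
    rw [Finset.mem_filter, chainsBelow, Finset.mem_filter]
    refine ⟨⟨Finset.mem_univ _, ?_, ?_⟩, ?_⟩
    · rw [Finset.coe_image]
      rintro _ ⟨s, _, rfl⟩ _ ⟨t, _, rfl⟩ _
      rcases le_total s.1 t.1 with h | h
      · exact Or.inl ((toSpace_le A).1 (by rw [hWf, hWf]; exact hmono _ h))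
      · exact Or.inr ((toSpace_le A).1 (by rw [hWf, hWf]; exact hmono _ h))
    · intro y hy
      obtain ⟨t, -, rfl⟩ := Finset.mem_image.1 hy
      have hd := hdim q t.1 t.2
      have hb := Finset.mem_Icc.1 (hT t.2)
      refine ⟨bot_lt_iff_ne_bot.2 fun e => ?_, lt_top_iff_ne_top.2 fun e => ?_⟩
      · rw [e, dimOf, toSpace_bot, finrank_bot] at hd; omega
      · rw [e, dimOf, toSpace_top, finrank_top, finrank_fin_fun] at hd; omega
    · ext m
      simp only [Finset.mem_image, Finset.mem_attach, true_and]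
      constructor
      · rintro ⟨_, ⟨t, rfl⟩, rfl⟩
        rw [hdim]; exact t.2
      · exact fun hm => ⟨_, ⟨⟨m, hm⟩, rfl⟩, hdim q m hm⟩
  rw [← Fintype.card_coe, ← Nat.card_eq_fintype_card]
  refine Nat.card_congr (Equiv.ofBijective (fun q => ⟨_, hchain q⟩) ⟨fun q r h => ?_, fun C => ?_⟩)
  · have hset := congrArg Subtype.val h
    have heq : ∀ t (ht : t ∈ T), Wf q t ht = Wf r t ht := by
      intro t ht
      have hset' : (T.attach.image fun t => Wf q t.1 t.2) = T.attach.image fun t => Wf r t.1 t.2 := hset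
      have : Wf q t ht ∈ T.attach.image fun t => Wf r t.1 t.2 :=
        hset' ▸ Finset.mem_image.2 ⟨⟨t, ht⟩, Finset.mem_attach _ _, rfl⟩
      obtain ⟨s, -, hs⟩ := Finset.mem_image.1 this
      have hd := congrArg (dimOf A) hs
      rw [hdim, hdim] at hd
      rw [← hs]
      obtain ⟨s, hs'⟩ := s
      subst hd
      rfl
    refine Subtype.ext ?_
    rw [← QuotientGroup.out_eq' q.1, ← QuotientGroup.out_eq' r.1, QuotientGroup.eq, mem_cutParabolic_iff hT]
    intro t ht
    have h1 : flagSpace (Quotient.out q.1) t = flagSpace (Quotient.out r.1) t := by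
      rw [← hWf q t ht, ← hWf r t ht, heq t ht]
    rw [flagSpace_mul, ← h1, ← flagSpace_mul, inv_mul_cancel, flagSpace_one]
  · obtain ⟨C, hC⟩ := C
    obtain ⟨hC1, hCimg⟩ := Finset.mem_filter.1 hC
    obtain ⟨-, hCchain, -⟩ := Finset.mem_filter.1 hC1
    have hchain' : IsChain (· ≤ ·) ((C.image (toSpace A) : Finset _) : Set (Submodule F (Fin n → F))) := by
      rw [Finset.coe_image]
      rintro _ ⟨W, hW, rfl⟩ _ ⟨W', hW', rfl⟩ _
      rcases hCchain.total hW hW' with h | h
      · exact Or.inl ((toSpace_le A).2 h)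
      · exact Or.inr ((toSpace_le A).2 h)
    obtain ⟨b, hb⟩ := exists_adapted n (Fin n → F) (finrank_fin_fun F) _ hchain'
    let e : (Fin n → F) ≃ₗ[F] (Fin n → F) := (Pi.basisFun F (Fin n)).equiv b (Equiv.refl _)
    let h : GL (Fin n) F := Units.mk (LinearMap.toMatrix' e.toLinearMap) (LinearMap.toMatrix' e.symm.toLinearMap)
      (by rw [← LinearMap.toMatrix'_comp, LinearEquiv.comp_coe, LinearEquiv.symm_trans_self]
          exact LinearMap.toMatrix'_id)
      (by rw [← LinearMap.toMatrix'_comp, LinearEquiv.comp_coe, LinearEquiv.self_trans_symm]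
          exact LinearMap.toMatrix'_id)
    have hflag : ∀ W ∈ C, flagSpace h (dimOf A W) = toSpace A W := by
      intro W hW
      conv_rhs => rw [hb _ (Finset.mem_image_of_mem _ hW)]
      rw [flagSpace, show Matrix.toLin' (h : Matrix (Fin n) (Fin n) F) = e.toLinearMap from Matrix.toLin'_toMatrix' _,
        firstCoords_eq_span, Submodule.map_span, Set.image_image]
      congr 1
      refine Set.image_congr fun i _ => ?_
      exact Basis.equiv_apply _ _ _ _
    have hfix : A • ((h : GL (Fin n) F) : GL (Fin n) F ⧸ cutParabolic F n T) = (h : GL (Fin n) F ⧸ cutParabolic F n T) := by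
      rw [MulAction.Quotient.smul_coe, smul_eq_mul, QuotientGroup.eq, mem_cutParabolic_iff hT]
      intro t ht
      obtain ⟨W, hW, rfl⟩ := Finset.mem_image.1 (hCimg.symm ▸ ht : t ∈ C.image (dimOf A))
      have hAinv : flagSpace (A * h) (dimOf A W) = flagSpace h (dimOf A W) := by
        rw [flagSpace_mul, hflag W hW]
        refine Submodule.eq_of_le_of_finrank_eq (toSpace_invariant A W) ?_
        exact (Submodule.equivMapOfInjective _ (toLin'_injective A) _).finrank_eq.symm
      rw [flagSpace_mul, ← hAinv, ← flagSpace_mul, inv_mul_cancel, flagSpace_one]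
    refine ⟨⟨_, hfix⟩, Subtype.ext ?_⟩
    show (T.attach.image fun t => Wf ⟨_, hfix⟩ t.1 t.2) = C
    have hout : ∀ t ∈ T, flagSpace (Quotient.out ((h : GL (Fin n) F) : GL (Fin n) F ⧸ cutParabolic F n T)) t =
        flagSpace h t := by
      intro t ht
      set o := Quotient.out ((h : GL (Fin n) F) : GL (Fin n) F ⧸ cutParabolic F n T)
      have h1 : h⁻¹ * o ∈ cutParabolic F n T := QuotientGroup.eq.1 (QuotientGroup.out_eq' _).symm
      have h2 := (mem_cutParabolic_iff hT _).1 h1 t ht
      conv_lhs => rw [← mul_inv_cancel_left h o, flagSpace_mul, h2]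
      rfl
    ext W
    rw [Finset.mem_image]
    constructor
    · rintro ⟨⟨t, ht⟩, -, rfl⟩
      obtain ⟨W, hW, rfl⟩ := Finset.mem_image.1 (hCimg.symm ▸ ht : t ∈ C.image (dimOf A))
      have : Wf ⟨_, hfix⟩ (dimOf A W) ht = W := toSpace_injective A (by rw [hWf, hout _ ht, hflag W hW])
      rw [this]; exact hW
    · intro hW
      have ht : dimOf A W ∈ T := hCimg ▸ Finset.mem_image_of_mem _ hW
      exact ⟨⟨_, ht⟩, Finset.mem_attach _ _, toSpace_injective A (by rw [hWf, hout _ ht, hflag W hW])⟩

end CfsgLib.GLUnipotent.StValues
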