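import Cfsg.Agent.Lib.GLUnipotent.SteinbergValues.Mobius
import Cfsg.Agent.Lib.KnownSimple.SemisimpleClasses.Modules

/-!
The Möbius function of the lattice of submodules of a finite semisimple `F[X]`-module.
-/

set_option autoImplicit false

namespace CfsgLib.GLUnipotent.StValues

open Polynomial Module UniqueFactorizationMonoid CfsgLib.SSClasses

universe u v

variable {F : Type u} [Field F]

theorem finiteDimensional_polySubmodule {V : Type v} [AddCommGroup V] [Module F V] [Module F[X] V]
    [IsScalarTower F F[X] V] [FiniteDimensional F V] (x : Submodule F[X] V) : FiniteDimensional F x :=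
  FiniteDimensional.of_injective ((x.subtype).restrictScalars F) x.injective_subtype

theorem free_polySubmodule {V : Type v} [AddCommGroup V] [Module F V] [Module F[X] V]
    [IsScalarTower F F[X] V] (x : Submodule F[X] V) : Module.Free F x :=
  Module.Free.of_divisionRing F x

attribute [local instance] finiteDimensional_polySubmodule free_polySubmodule

theorem normalizedFactors_monic_irreducible [DecidableEq F] {f : F[X]} (hf : Irreducible f) (hm : f.Monic) :
    normalizedFactors f = {f} := by
  rw [normalizedFactors_irreducible hf, hm.normalize_eq_self]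

/-- The characteristic polynomial of the residue field of `f` is `f`. -/
theorem charpoly_residue {f : F[X]} (hf : Irreducible f) (hm : f.Monic)
    [Module.Finite F (F[X] ⧸ Ideal.span {f})] :
    (xEnd F (F[X] ⧸ Ideal.span {f})).charpoly = f := by
  haveI : Fact (Irreducible f) := ⟨hf⟩
  let pb := AdjoinRoot.powerBasis hf.ne_zero
  haveI : Module.Finite F (AdjoinRoot f) := pb.finite
  have h1 : (xEnd F (F[X] ⧸ Ideal.span {f}) : Module.End F (AdjoinRoot f)) =
      Algebra.lmul F (AdjoinRoot f) (AdjoinRoot.root f) := by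
    refine LinearMap.ext fun x => ?_
    obtain ⟨y, rfl⟩ := AdjoinRoot.mk_surjective x
    show AdjoinRoot.mk f (X * y) = AdjoinRoot.root f * AdjoinRoot.mk f y
    rw [map_mul, AdjoinRoot.mk_X]
  have h2 : (Algebra.lmul F (AdjoinRoot f) (AdjoinRoot.root f)).charpoly = f := by
    rw [← LinearMap.charpoly_toMatrix _ pb.basis]
    show (Algebra.leftMulMatrix pb.basis pb.gen).charpoly = f
    rw [charpoly_leftMulMatrix]
    exact (minpoly.eq_of_irreducible_of_monic hf (by simp [pb]) hm).symm
  exact (congrArg (fun a : Module.End F (AdjoinRoot f) => a.charpoly) h1).trans h2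

variable [Fintype F]

theorem card_residue {f : F[X]} (hf : Irreducible f) :
    Nat.card (F[X] ⧸ Ideal.span {f}) = Fintype.card F ^ f.natDegree := by
  let pb := AdjoinRoot.powerBasis hf.ne_zero
  haveI : Module.Finite F (AdjoinRoot f) := pb.finite
  show Nat.card (AdjoinRoot f) = _
  rw [Module.natCard_eq_pow_finrank (K := F), pb.finrank, AdjoinRoot.powerBasis_dim, Nat.card_eq_fintype_card]

omit [Fintype F] in
theorem charpoly_prod_of_isCompl {V : Type v} [AddCommGroup V] [Module F V] [Module F[X] V]
    [IsScalarTower F F[X] V] [FiniteDimensional F V] {S C : Submodule F[X] V} (h : IsCompl S C) :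
    (xEnd F V).charpoly = (xEnd F S).charpoly * (xEnd F C).charpoly := by
  let e : (↥S × ↥C) ≃ₗ[F[X]] V := Submodule.prodEquivOfIsCompl S C h
  haveI : FiniteDimensional F S := FiniteDimensional.of_injective ((S.subtype).restrictScalars F) S.injective_subtype
  haveI : FiniteDimensional F C := FiniteDimensional.of_injective ((C.subtype).restrictScalars F) C.injective_subtype
  rw [← LinearMap.charpoly_prodMap, ← xEnd_prod, ← LinearEquiv.charpoly_conj (e.restrictScalars F), conj_xEnd]

omit [Fintype F] in
theorem charpoly_congr {V W : Type v} [AddCommGroup V] [Module F V] [Module F[X] V] [IsScalarTower F F[X] V]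
    [FiniteDimensional F V] [AddCommGroup W] [Module F W] [Module F[X] W] [IsScalarTower F F[X] W]
    [FiniteDimensional F W] (e : V ≃ₗ[F[X]] W) : (xEnd F W).charpoly = (xEnd F V).charpoly := by
  rw [← conj_xEnd e, LinearEquiv.charpoly_conj]

omit [Fintype F] in
/-- A module of positive dimension splits off a residue field. -/
theorem exists_split {V : Type v} [AddCommGroup V] [Module F V] [Module F[X] V] [IsScalarTower F F[X] V]
    [FiniteDimensional F V] [IsSemisimpleModule F[X] V] (hV : 0 < finrank F V) :
    ∃ (g : F[X]) (S C : Submodule F[X] V), Irreducible g ∧ g.Monic ∧ IsCompl S C ∧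
      Nonempty ((F[X] ⧸ Ideal.span {g}) ≃ₗ[F[X]] S) ∧ (xEnd F V).charpoly = g * (xEnd F C).charpoly ∧
      finrank F C < finrank F V := by
  classical
  have hnu : ¬ IsUnit (xEnd F V).charpoly := fun hu => by
    have := natDegree_eq_zero_of_isUnit hu
    rw [LinearMap.charpoly_natDegree] at this
    omega
  obtain ⟨g, hgm, hg, hgd⟩ := Polynomial.exists_monic_irreducible_factor _ hnu
  obtain ⟨S, ⟨eS⟩⟩ := exists_cyclic hg hgd
  obtain ⟨C, hC⟩ := exists_isCompl S
  haveI : FiniteDimensional F S := FiniteDimensional.of_injective ((S.subtype).restrictScalars F) S.injective_subtype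
  haveI : FiniteDimensional F C := FiniteDimensional.of_injective ((C.subtype).restrictScalars F) C.injective_subtype
  have hcS : (xEnd F S).charpoly = g := by
    rw [← conj_xEnd eS]
    haveI : Module.Finite F (F[X] ⧸ Ideal.span {g}) := (AdjoinRoot.powerBasis hg.ne_zero).finite
    rw [LinearEquiv.charpoly_conj, charpoly_residue hg hgm]
  have hmul := charpoly_prod_of_isCompl hC
  rw [hcS] at hmul
  refine ⟨g, S, C, hg, hgm, hC, ⟨eS⟩, hmul, ?_⟩
  rw [← LinearMap.charpoly_natDegree (xEnd F C), ← LinearMap.charpoly_natDegree (xEnd F V), hmul,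
    hgm.natDegree_mul (LinearMap.charpoly_monic _)]
  have := hg.natDegree_pos
  omega

/-- The number of homomorphisms into a residue field. -/
theorem card_hom_residue [DecidableEq F] {f : F[X]} (hf : Irreducible f) (hm : f.Monic) :
    ∀ (d : ℕ) (C : Type v) [AddCommGroup C] [Module F C] [Module F[X] C] [IsScalarTower F F[X] C]
      [FiniteDimensional F C] [IsSemisimpleModule F[X] C], finrank F C = d →
      Nat.card (C →ₗ[F[X]] (F[X] ⧸ Ideal.span {f})) =
        Fintype.card F ^ (f.natDegree * (normalizedFactors (xEnd F C).charpoly).count f) := by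
  intro d
  induction d using Nat.strong_induction_on with
  | _ d ih =>
  intro C _ _ _ _ _ _ hd
  rcases Nat.eq_zero_or_pos d with h0 | hpos
  · subst h0
    haveI := Module.finrank_zero_iff.1 hd
    have h1 : (xEnd F C).charpoly = 1 :=
      (LinearMap.charpoly_monic _).natDegree_eq_zero.1 (by rw [LinearMap.charpoly_natDegree, hd])
    rw [h1, normalizedFactors_one, Multiset.count_zero, mul_zero, pow_zero]
    exact Nat.card_eq_one_iff_unique.2 ⟨⟨fun a b => LinearMap.ext fun x => by
      rw [Subsingleton.elim x 0, map_zero, map_zero]⟩, ⟨0⟩⟩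
  obtain ⟨g, S, T, hg, hgm, hST, ⟨eS⟩, hmul, hlt⟩ := exists_split (V := C) (hd ▸ hpos)
  haveI : FiniteDimensional F T := FiniteDimensional.of_injective ((T.subtype).restrictScalars F) T.injective_subtype
  let e : (↥S × ↥T) ≃ₗ[F[X]] C := Submodule.prodEquivOfIsCompl S T hST
  let Q := F[X] ⧸ Ideal.span {f}
  have hprod : Nat.card (C →ₗ[F[X]] Q) =
      Nat.card ((F[X] ⧸ Ideal.span {g}) →ₗ[F[X]] Q) * Nat.card (↥T →ₗ[F[X]] Q) := by
    rw [← Nat.card_prod]
    refine Nat.card_congr ?_
    exact ((LinearEquiv.congrLeft Q F[X] e.symm).toEquiv.trans (LinearMap.coprodEquiv F[X]).symm.toEquiv).trans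
      (Equiv.prodCongr (LinearEquiv.congrLeft Q F[X] eS.symm).toEquiv (Equiv.refl _))
  have hpoint : Nat.card ((F[X] ⧸ Ideal.span {g}) →ₗ[F[X]] Q) =
      if g = f then Fintype.card F ^ f.natDegree else 1 := by
    let one : F[X] ⧸ Ideal.span {g} := Submodule.Quotient.mk 1
    have hgone : g • one = 0 := by
      rw [← Submodule.Quotient.mk_smul, Submodule.Quotient.mk_eq_zero, smul_eq_mul, mul_one]
      exact Ideal.mem_span_singleton_self g
    have hinj : Function.Injective (fun φ : (F[X] ⧸ Ideal.span {g}) →ₗ[F[X]] Q => φ one) := by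
      intro φ ψ h
      refine LinearMap.ext fun x => ?_
      obtain ⟨p, rfl⟩ := Submodule.Quotient.mk_surjective _ x
      have : (Submodule.Quotient.mk p : F[X] ⧸ Ideal.span {g}) = p • one := by
        rw [← Submodule.Quotient.mk_smul, smul_eq_mul, mul_one]
      rw [this, map_smul, map_smul]
      exact congrArg (p • ·) h
    have hfQ : ∀ w : Q, f • w = 0 := by
      intro w
      obtain ⟨y, rfl⟩ := Submodule.Quotient.mk_surjective _ w
      rw [← Submodule.Quotient.mk_smul, Submodule.Quotient.mk_eq_zero, smul_eq_mul]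
      exact Ideal.mem_span_singleton.2 (dvd_mul_right f y)
    by_cases hgf : g = f
    · subst hgf
      rw [if_pos rfl, ← card_residue hf]
      refine Nat.card_congr (Equiv.ofBijective _ ⟨hinj, fun w => ?_⟩)
      refine ⟨(Ideal.span {g} : Submodule F[X] F[X]).liftQ (LinearMap.toSpanSingleton F[X] Q w) ?_, ?_⟩
      · intro p hp
        obtain ⟨r, rfl⟩ := Ideal.mem_span_singleton.1 hp
        rw [LinearMap.mem_ker, LinearMap.toSpanSingleton_apply, mul_comm, mul_smul, hfQ, smul_zero]
      · show (LinearMap.toSpanSingleton F[X] Q w) 1 = w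
        rw [LinearMap.toSpanSingleton_apply, one_smul]
    · rw [if_neg hgf]
      refine Nat.card_eq_one_iff_unique.2 ⟨⟨fun φ ψ => hinj ?_⟩, ⟨0⟩⟩
      have key : ∀ χ : (F[X] ⧸ Ideal.span {g}) →ₗ[F[X]] Q, χ one = 0 := by
        intro χ
        have hg0 : g • χ one = 0 := by rw [← map_smul, hgone, map_zero]
        have hcop : IsCoprime g f := by
          rw [hg.coprime_iff_not_dvd]
          exact fun hdvd => hgf (eq_of_monic_of_associated hgm hm (hg.associated_of_dvd hf hdvd))
        obtain ⟨a, b, hab⟩ := hcop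
        calc χ one = (a * g + b * f) • χ one := by rw [hab, one_smul]
          _ = 0 := by rw [add_smul, mul_smul, mul_smul, hg0, hfQ, smul_zero, smul_zero, add_zero]
      show φ one = ψ one
      rw [key, key]
  rw [hprod, hpoint, ih _ (hd ▸ hlt) T rfl, hmul, normalizedFactors_mul hg.ne_zero (LinearMap.charpoly_monic _).ne_zero,
    Multiset.count_add, normalizedFactors_monic_irreducible hg hgm, Multiset.count_singleton, mul_add, pow_add]
  by_cases hgf : g = f
  · rw [if_pos hgf, if_pos hgf.symm, mul_one]
  · rw [if_neg hgf, if_neg (Ne.symm hgf), mul_zero, pow_zero]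

variable {V : Type v} [AddCommGroup V] [Module F V] [Module F[X] V] [IsScalarTower F F[X] V]
  [FiniteDimensional F V] [IsSemisimpleModule F[X] V] [Fintype (Submodule F[X] V)]

/-- The value of the Möbius function in terms of the characteristic polynomial. -/
theorem mu_submodule [DecidableEq F] : ∀ (d : ℕ) (x : Submodule F[X] V) (Φ : Finset F[X]), finrank F x = d →
    (normalizedFactors (xEnd F x).charpoly).toFinset ⊆ Φ →
    mu x = ∏ f ∈ Φ, (-1 : ℤ) ^ (normalizedFactors (xEnd F x).charpoly).count f *
      (Fintype.card F : ℤ) ^ (f.natDegree * ((normalizedFactors (xEnd F x).charpoly).count f).choose 2) := by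
  intro d
  induction d using Nat.strong_induction_on with
  | _ d ih =>
  intro x Φ hd hΦ
  classical
  haveI : FiniteDimensional F x := FiniteDimensional.of_injective ((x.subtype).restrictScalars F) x.injective_subtype
  rcases Nat.eq_zero_or_pos d with h0 | hpos
  · subst h0
    haveI := Module.finrank_zero_iff.1 hd
    have hx : x = ⊥ := Submodule.eq_bot_of_subsingleton
    have h1 : (xEnd F x).charpoly = 1 :=
      (LinearMap.charpoly_monic _).natDegree_eq_zero.1 (by rw [LinearMap.charpoly_natDegree, hd])
    rw [h1, normalizedFactors_one, hx, mu_bot]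
    simp
  obtain ⟨g, S, C, hg, hgm, hSC, ⟨eS⟩, hmul, hlt⟩ := exists_split (V := x) (hd ▸ hpos)
  haveI : FiniteDimensional F C := FiniteDimensional.of_injective ((C.subtype).restrictScalars F) C.injective_subtype
  haveI : Fact (Irreducible g) := ⟨hg⟩
  haveI : IsSimpleModule F[X] (F[X] ⧸ Ideal.span {g}) :=
    isSimpleModule_iff_isCoatom.2 (Ideal.isMaximal_def.1 (PrincipalIdealRing.isMaximal_of_irreducible hg))
  haveI : IsSimpleModule F[X] S := IsSimpleModule.congr eS.symm
  set a : Submodule F[X] V := S.map x.subtype with ha'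
  have ha : IsAtom a := by
    rw [← isSimpleModule_iff_isAtom]
    exact IsSimpleModule.congr (R := F[X]) (N := S) (x.equivSubtypeMap S).symm
  have hax : a ≤ x := Submodule.map_subtype_le _ _
  set Y := Finset.univ.filter fun y : Submodule F[X] V => ¬ a ≤ y ∧ y ⊔ a = x with hY
  have hYq : ∀ q : Submodule F[X] x, IsCompl S q → ¬ a ≤ q.map x.subtype ∧ q.map x.subtype ⊔ a = x := by
    intro q hq
    refine ⟨fun h => ?_, ?_⟩
    · have hSq : S ≤ q := by
        rw [ha'] at h
        exact (Submodule.map_le_map_iff_of_injective x.injective_subtype S q).1 h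
      have : S = ⊥ := le_bot_iff.1 (hq.disjoint le_rfl hSq)
      exact ha.1 (by rw [ha', this, Submodule.map_bot])
    · rw [ha', sup_comm, ← Submodule.map_sup, hq.sup_eq_top, Submodule.map_subtype_top]
  have hYc : ∀ y, ¬ a ≤ y → y ⊔ a = x → IsCompl S (y.comap x.subtype) := by
    intro y hy hyx
    have hyx' : y ≤ x := hyx ▸ le_sup_left
    refine ⟨disjoint_iff.2 ?_, codisjoint_iff.2 ?_⟩
    · apply Submodule.map_injective_of_injective x.injective_subtype
      rw [Submodule.map_inf _ x.injective_subtype, Submodule.map_bot, Submodule.map_comap_subtype, ← ha']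
      rcases ha.le_iff.1 (inf_le_left : a ⊓ (x ⊓ y) ≤ a) with h | h
      · exact h
      · exact absurd ((inf_eq_left.1 h).trans inf_le_right) hy
    · apply Submodule.map_injective_of_injective x.injective_subtype
      rw [Submodule.map_sup, Submodule.map_subtype_top, Submodule.map_comap_subtype, ← ha',
        inf_eq_right.2 hyx', sup_comm, hyx]
  have hcardY : Y.card = Fintype.card F ^ (g.natDegree * (normalizedFactors (LinearMap.charpoly (R := F) (M := ↥C) (xEnd F ↥C))).count g) := by
    rw [← card_hom_residue hg hgm _ C rfl]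
    have e1 : {y // y ∈ Y} ≃ {q : Submodule F[X] x // IsCompl S q} :=
      { toFun := fun y => ⟨y.1.comap x.subtype, hYc y.1 (Finset.mem_filter.1 y.2).2.1 (Finset.mem_filter.1 y.2).2.2⟩
        invFun := fun q => ⟨q.1.map x.subtype, Finset.mem_filter.2 ⟨Finset.mem_univ _, hYq q.1 q.2⟩⟩
        left_inv := fun y => Subtype.ext (by
          show (y.1.comap x.subtype).map x.subtype = y.1
          rw [Submodule.map_comap_subtype, inf_eq_right]
          exact (Finset.mem_filter.1 y.2).2.2 ▸ le_sup_left)
        right_inv := fun q => Subtype.ext (Submodule.comap_map_eq_of_injective x.injective_subtype _) }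
    rw [← Fintype.card_coe, ← Nat.card_eq_fintype_card, Nat.card_congr (e1.trans (Submodule.isComplEquivProj S))]
    let J : (↥C →ₗ[F[X]] ↥S) → (↥x →ₗ[F[X]] ↥S) :=
      fun ψ => LinearMap.ofIsCompl (F := ↥S) hSC (LinearMap.id : ↥S →ₗ[F[X]] ↥S) ψ
    have e2 : {f : ↥x →ₗ[F[X]] ↥S // ∀ s : S, f s = s} ≃ (↥C →ₗ[F[X]] ↥S) :=
      { toFun := fun f => f.1.comp C.subtype
        invFun := fun ψ => ⟨J ψ, fun s => LinearMap.ofIsCompl_apply_left _ s⟩
        left_inv := fun f => Subtype.ext (LinearMap.ofIsCompl_eq (F := ↥S) hSC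
          (φ := LinearMap.id) (ψ := f.1.comp C.subtype) (χ := f.1) (fun s => (f.2 s).symm) (fun c => rfl))
        right_inv := fun ψ => LinearMap.ext fun c => by
          show LinearMap.ofIsCompl hSC LinearMap.id ψ (c : ↥x) = ψ c
          exact LinearMap.ofIsCompl_apply_right _ c }
    exact Nat.card_congr (e2.trans (LinearEquiv.congrRight eS.symm).toEquiv)
  have hval : ∀ y ∈ Y, mu y = ∏ f ∈ Φ, (-1 : ℤ) ^ (normalizedFactors (xEnd F C).charpoly).count f *
      (Fintype.card F : ℤ) ^ (f.natDegree * ((normalizedFactors (xEnd F C).charpoly).count f).choose 2) := by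
    intro y hy
    obtain ⟨hy1, hy2⟩ := (Finset.mem_filter.1 hy).2
    haveI : FiniteDimensional F y := FiniteDimensional.of_injective ((y.subtype).restrictScalars F) y.injective_subtype
    have e : C ≃ₗ[F[X]] y := ((Submodule.quotientEquivOfIsCompl S C hSC).symm.trans
      (Submodule.quotientEquivOfIsCompl S _ (hYc y hy1 hy2))).trans
        (Submodule.comapSubtypeEquivOfLe (hy2 ▸ le_sup_left))
    have hc := charpoly_congr (F := F) (V := ↥C) (W := ↥y) e
    rw [← hc]
    refine ih _ ?_ y Φ rfl (fun f hf => hΦ ?_)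
    · rw [← (e.restrictScalars F).finrank_eq]; exact hd ▸ hlt
    · rw [Multiset.mem_toFinset] at hf ⊢
      rw [hc] at hf
      rw [hmul, normalizedFactors_mul hg.ne_zero (LinearMap.charpoly_monic _).ne_zero]
      exact Multiset.mem_add.2 (Or.inr hf)
  rw [mu_eq_neg_sum ha hax, Finset.sum_congr (s₂ := Y) (by ext y; simp [hY]) hval, Finset.sum_const, hcardY, nsmul_eq_mul]
  have hnf : normalizedFactors (xEnd F x).charpoly =
      g ::ₘ normalizedFactors (LinearMap.charpoly (R := F) (M := ↥C) (xEnd F ↥C)) := by
    rw [hmul, normalizedFactors_mul hg.ne_zero (LinearMap.charpoly_monic _).ne_zero,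
      normalizedFactors_monic_irreducible hg hgm, Multiset.singleton_add]
  have hgΦ : g ∈ Φ := hΦ (Multiset.mem_toFinset.2 (hnf ▸ Multiset.mem_cons_self _ _))
  rw [hnf, ← Finset.mul_prod_erase Φ _ hgΦ, ← Finset.mul_prod_erase Φ _ hgΦ, Multiset.count_cons_self,
    Nat.choose_succ_succ, Nat.choose_one_right, mul_add, pow_add, pow_succ]
  have hrest : ∀ s : Multiset F[X], (∏ f ∈ Φ.erase g,
      (-1 : ℤ) ^ (g ::ₘ s).count f * (Fintype.card F : ℤ) ^ (f.natDegree * ((g ::ₘ s).count f).choose 2)) =
      ∏ f ∈ Φ.erase g, (-1 : ℤ) ^ s.count f * (Fintype.card F : ℤ) ^ (f.natDegree * (s.count f).choose 2) :=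
    fun s => Finset.prod_congr rfl fun f hf => by rw [Multiset.count_cons_of_ne (Finset.ne_of_mem_erase hf)]
  rw [hrest]
  push_cast
  ring

end CfsgLib.GLUnipotent.StValues
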