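import Cfsg.Agent.Lib.GLUnipotent.SteinbergValues.Flags
import Cfsg.Agent.Lib.GLUnipotent.SteinbergValues.Modules

/-!
Values of the Steinberg character of `GL_n(q)` at semisimple elements.
-/

set_option autoImplicit false

namespace CfsgLib.GLUnipotent.StValues

open Polynomial Module UniqueFactorizationMonoid CfsgLib.SSClasses
open scoped MatrixGroups

universe u

attribute [local instance] finiteDimensional_polySubmodule free_polySubmodule

variable {F : Type u} [Field F] [Fintype F] [DecidableEq F]

theorem unipotent_ones_eq_sum {n : ℕ} (x : GL (Fin n) F) :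
    Cfsg.unipotentCharacterGL n F (fun _ => 1) x =
      ∑ T ∈ (Finset.Icc 1 (n - 1)).powerset, (-1 : ℂ) ^ (n - 1 - T.card) *
        Cfsg.fixedPointCharacter (cutParabolic F n T) x := by
  classical
  unfold Cfsg.unipotentCharacterGL
  rw [← Finset.sum_filter]
  refine Finset.sum_bij' (fun κ _ => cutsOf κ) (fun T _ => kap T) ?_ ?_ ?_ ?_ ?_
  · intro κ _
    exact Finset.mem_powerset.2 (cutsOf_subset κ)
  · intro T _
    refine Finset.mem_filter.2 ⟨Finset.mem_univ _, fun i => ?_⟩
    have := kapFun_le T i
    show (kap T i).val ≤ 1 + i.val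
    rw [kap_apply]
    omega
  · intro κ hκ
    exact kap_cutsOf fun i => by
      have := (Finset.mem_filter.1 hκ).2 i
      simp only at this
      omega
  · intro T hT
    exact cutsOf_kap (Finset.mem_powerset.1 hT)
  · intro κ hκ
    have hk : kap (cutsOf κ) = κ := kap_cutsOf fun i => by
      have := (Finset.mem_filter.1 hκ).2 i
      simp only at this
      omega
    have hs : ((Equiv.Perm.sign κ : ℤ) : ℂ) = (-1 : ℂ) ^ (n - 1 - (cutsOf κ).card) := by
      conv_lhs => rw [← hk, sign_kap (cutsOf_subset κ)]
      push_cast
      ring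
    rw [hs, cutParabolic]
    congr 3
    funext i
    rw [hk]

theorem steinberg_value (p : ℕ) [Fact p.Prime] [CharP F p] {n : ℕ} (x : GL (Fin n) F)
    (hx : (orderOf x).Coprime p) :
    Cfsg.unipotentCharacterGL n F (fun _ => 1) x =
      ∏ f ∈ (normalizedFactors (x : Matrix (Fin n) (Fin n) F).charpoly).toFinset,
        (-1 : ℂ) ^ ((f.natDegree - 1) * (normalizedFactors (x : Matrix (Fin n) (Fin n) F).charpoly).count f) *
          ((Fintype.card F : ℕ) : ℂ) ^
            (f.natDegree * (normalizedFactors (x : Matrix (Fin n) (Fin n) F).charpoly).count f *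
              ((normalizedFactors (x : Matrix (Fin n) (Fin n) F).charpoly).count f - 1) / 2) := by
  classical
  have hN : (orderOf x : F) ≠ 0 := by
    rw [Ne, CharP.cast_eq_zero_iff F p]
    exact ((Nat.Prime.coprime_iff_not_dvd Fact.out).1 hx.symm)
  have hpow : (x : Matrix (Fin n) (Fin n) F) ^ orderOf x = 1 := by
    rw [← Units.val_pow_eq_pow_val, pow_orderOf_eq_one, Units.val_one]
  haveI := semisimple_matMod hN hpow
  set M := MatMod (x : Matrix (Fin n) (Fin n) F)
  haveI : FiniteDimensional F M := (AEval'.of (Matrix.toLin' (x : Matrix (Fin n) (Fin n) F))).finiteDimensional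
  haveI : Finite M := Module.finite_of_finite F
  haveI : Fintype (Submodule F[X] M) := Fintype.ofFinite _
  have hfr : finrank F M = n := by
    rw [← (AEval'.of (Matrix.toLin' (x : Matrix (Fin n) (Fin n) F))).finrank_eq, Module.finrank_fin_fun]
  -- the alternating sum is a Möbius value
  have hmu : Cfsg.unipotentCharacterGL n F (fun _ => 1) x =
      (-1 : ℂ) ^ n * ((mu (⊤ : Submodule F[X] M) : ℤ) : ℂ) := by
    rcases Nat.eq_zero_or_pos n with h0 | hpos
    · subst h0
      have htop : (⊤ : Submodule F[X] M) = ⊥ := by
        haveI := Module.finrank_zero_iff.1 hfr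
        exact Subsingleton.elim _ _
      rw [htop, mu_bot, unipotent_ones_eq_sum]
      have : Cfsg.fixedPointCharacter (cutParabolic F 0 ∅) x = 1 := by
        unfold Cfsg.fixedPointCharacter
        have hu : Nat.card (MulAction.fixedBy (GL (Fin 0) F ⧸ cutParabolic F 0 ∅) x) = 1 :=
          Nat.card_eq_one_iff_unique.2 ⟨⟨fun a b => Subtype.ext (by
            induction a.1 using QuotientGroup.induction_on with
            | H u =>
              induction b.1 using QuotientGroup.induction_on with
              | H v => rw [Subsingleton.elim u v])⟩,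
            ⟨⟨((1 : GL (Fin 0) F) : GL (Fin 0) F ⧸ cutParabolic F 0 ∅), by
              show x • _ = _
              rw [MulAction.Quotient.smul_coe, smul_eq_mul, Subsingleton.elim (x * 1) 1]⟩⟩⟩
        rw [hu, Nat.cast_one]
      rw [show ((Finset.Icc 1 (0 - 1)).powerset : Finset (Finset ℕ)) = {∅} from rfl, Finset.sum_singleton, this]
      simp
    · have htop : (⊤ : Submodule F[X] M) ≠ ⊥ := by
        intro e
        have h2 := toSpace_top x
        rw [show (⊤ : Submodule F[X] (MatMod (x : Matrix (Fin n) (Fin n) F))) = ⊥ from e, toSpace_bot] at h2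
        have h3 := congrArg (fun U : Submodule F (Fin n → F) => finrank F U) h2
        simp at h3
        omega
      set S := chainsBelow (⊤ : Submodule F[X] M) with hS
      have himg : ∀ C ∈ S, (C.image (dimOf x)).card = C.card ∧ C.image (dimOf x) ⊆ Finset.Icc 1 (n - 1) := by
        intro C hC
        obtain ⟨-, hch, hb⟩ := Finset.mem_filter.1 hC
        refine ⟨Finset.card_image_of_injOn fun W hW W' hW' h => ?_, fun m hm => ?_⟩
        · by_contra hne
          rcases hch.total hW hW' with h' | h'
          · exact absurd h (dimOf_strictMono x (lt_of_le_of_ne h' hne)).ne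
          · exact absurd h (dimOf_strictMono x (lt_of_le_of_ne h' (Ne.symm hne))).ne'
        · obtain ⟨W, hW, rfl⟩ := Finset.mem_image.1 hm
          have h1 : dimOf x ⊥ < dimOf x W := dimOf_strictMono x (hb W hW).1
          have h2 : dimOf x W < dimOf x ⊤ := dimOf_strictMono x (hb W hW).2
          rw [dimOf, toSpace_bot, finrank_bot] at h1
          rw [show dimOf x ⊤ = n by rw [dimOf, toSpace_top, finrank_top, Module.finrank_fin_fun]] at h2
          exact Finset.mem_Icc.2 ⟨h1, by omega⟩
      rw [unipotent_ones_eq_sum]
      have hfix : ∀ T ∈ (Finset.Icc 1 (n - 1)).powerset, (-1 : ℂ) ^ (n - 1 - T.card) *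
          Cfsg.fixedPointCharacter (cutParabolic F n T) x =
          ∑ C ∈ S.filter (fun C => C.image (dimOf x) = T), (-1 : ℂ) ^ (n - 1) * (-1 : ℂ) ^ C.card := by
        intro T hT
        rw [Finset.mem_powerset] at hT
        have hc : ∀ C ∈ S.filter (fun C => C.image (dimOf x) = T),
            (-1 : ℂ) ^ (n - 1) * (-1 : ℂ) ^ C.card = (-1 : ℂ) ^ (n - 1 - T.card) := by
          intro C hC
          obtain ⟨hC1, hC2⟩ := Finset.mem_filter.1 hC
          have h1 := (himg C hC1).1
          rw [hC2] at h1
          have h2 := Finset.card_le_card hT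
          rw [Nat.card_Icc] at h2
          rw [← h1]
          obtain ⟨r, hr⟩ := Nat.exists_eq_add_of_le (show T.card ≤ n - 1 by omega)
          rw [hr, Nat.add_sub_cancel_left, pow_add, mul_right_comm, ← mul_pow]
          simp
        rw [Finset.sum_congr rfl hc, Finset.sum_const, nsmul_eq_mul, mul_comm]
        congr 1
        unfold Cfsg.fixedPointCharacter
        rw [card_fixedBy_cutParabolic x (by omega) hT]
      rw [Finset.sum_congr rfl hfix,
        Finset.sum_fiberwise_of_maps_to (g := fun C => C.image (dimOf x))
          (fun C hC => Finset.mem_powerset.2 (himg C hC).2),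
        ← Finset.mul_sum]
      have h := congrArg (fun z : ℤ => (z : ℂ)) (sum_chainsBelow htop)
      push_cast at h
      have hp : (-1 : ℂ) ^ n = (-1 : ℂ) ^ (n - 1) * (-1) := by
        rw [← pow_succ, Nat.sub_add_cancel hpos]
      rw [hS, h, hp]
      ring
  -- the Möbius value from the characteristic polynomial
  have htopc : (LinearMap.charpoly (R := F) (M := ↥(⊤ : Submodule F[X] M)) (xEnd F ↥(⊤ : Submodule F[X] M))) = (x : Matrix (Fin n) (Fin n) F).charpoly := by
    rw [← charpoly_matMod]
    exact charpoly_congr (F := F) (V := M) (W := ↥(⊤ : Submodule F[X] M)) Submodule.topEquiv.symm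
  rw [hmu]
  have hval := mu_submodule (F := F) _ (⊤ : Submodule F[X] M)
    (normalizedFactors (x : Matrix (Fin n) (Fin n) F).charpoly).toFinset rfl (by rw [htopc])
  rw [hval, htopc]
  set m := normalizedFactors (x : Matrix (Fin n) (Fin n) F).charpoly
  have hdeg : ∑ f ∈ m.toFinset, f.natDegree * m.count f = n := by
    have hmon := Matrix.charpoly_monic (x : Matrix (Fin n) (Fin n) F)
    have h1 : m.prod = (x : Matrix (Fin n) (Fin n) F).charpoly :=
      eq_of_monic_of_associated (by
        have := monic_multiset_prod_of_monic m id fun f hf => by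
          show f.Monic
          rw [← normalize_normalized_factor f hf]
          exact Polynomial.monic_normalize (irreducible_of_normalized_factor f hf).ne_zero
        rwa [Multiset.map_id] at this) hmon
        (prod_normalizedFactors hmon.ne_zero)
    have h2 := congrArg natDegree h1
    rw [Matrix.charpoly_natDegree_eq_dim, Fintype.card_fin,
      natDegree_multiset_prod _ (fun h => zero_notMem_normalizedFactors _ h), Finset.sum_multiset_map_count] at h2
    refine Eq.trans (Finset.sum_congr rfl fun f _ => ?_) h2
    rw [smul_eq_mul, mul_comm]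
  push_cast
  have hn' : (-1 : ℂ) ^ n = ∏ f ∈ m.toFinset, (-1 : ℂ) ^ (f.natDegree * m.count f) := by
    rw [Finset.prod_pow_eq_pow_sum, hdeg]
  rw [hn', ← Finset.prod_mul_distrib]
  refine Finset.prod_congr rfl fun f hf => ?_
  rw [← mul_assoc, ← pow_add]
  have hd : 1 ≤ f.natDegree :=
    (irreducible_of_normalized_factor f (Multiset.mem_toFinset.1 hf)).natDegree_pos
  have hev : 2 ∣ m.count f * (m.count f - 1) := (Nat.even_mul_pred_self _).two_dvd
  rw [show f.natDegree * m.count f * (m.count f - 1) / 2 = f.natDegree * (m.count f).choose 2 by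
    rw [Nat.choose_two_right, mul_assoc, Nat.mul_div_assoc _ hev]]
  congr 1
  obtain ⟨r, hr⟩ := Nat.exists_eq_add_of_le hd
  rw [hr, Nat.add_sub_cancel_left, show (1 + r) * m.count f + m.count f = r * m.count f + 2 * m.count f by ring,
    pow_add, pow_mul (-1 : ℂ) 2]
  simp

end CfsgLib.GLUnipotent.StValues
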